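import Cfsg.Agent.H412.CC.PF
import Cfsg.Agent.H951.UMat
import Cfsg.Agent.TitsThree.KSideUDesc

/-!
# S4884, cross characteristic, block G: the `q`-elements of `SU_n` (helper412)

`qelt_of`: `QElt` from one element `x` with `dim [V, x] = c` and, when the order `f` of `|F|` modulo `q` is a binary digit
of `N` and `c = 2 f`, two commuting such elements with `[V, y] ≤ C_V(x)`; `V` any nondegenerate (hermitian, alternating)
space.  `exists_two`: the existence of such pairs.  `qelt_psu`: block G for `PSU_n`.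
-/

set_option autoImplicit false

namespace Cfsg.Agent.H412.CC

open Module Polynomial Cfsg.Agent.H951 Cfsg.Agent.H439.CC

section gen

variable {F V : Type*} [Field F] [AddCommGroup V] [Module F V] [FiniteDimensional F V]
  {σ : F →+* F} {ε : F} {B : V → V → F} {q f c N : ℕ}

theorem ti_inv [Fintype F] [Fact q.Prime] (hB : Frm σ ε B) (hV : Nd B (⊤ : Submodule F V)) (hr : (q : F) ≠ 0)
    {x : End F V} (hx : Isom B x) (hxq : x ^ q = 1) (hf : f = orderOf (Fintype.card F : ZMod q))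
    (hxc : finrank F ↥(cm x) = c) (hc : c = 2 * f ∨ c = f) :
    ∀ U, TI B U → Inv x U → U ≤ cm x → U ≠ ⊥ → finrank F U = f ∧ c = 2 * f := by
  intro U hU hi hle hne
  have h1 := ord_dvd_finrank hxq hi (inf_fx_of_le_cm hr hxq hle)
  rw [← hf] at h1
  have h2 := hx.nd_inf_cm hB hr hxq inv_top hV
  rw [top_inf_eq] at h2
  have h3 := hB.two_mul_finrank_le h2 hle hU
  have h4 : 0 < finrank F U := by
    rw [Nat.pos_iff_ne_zero]
    intro h
    exact hne (Submodule.finrank_eq_zero.1 h)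
  have h5 := Nat.le_of_dvd h4 h1
  omega

theorem not_le_fx (hB : Frm σ ε B) (hV : Nd B (⊤ : Submodule F V)) (hr : (q : F) ≠ 0)
    {x : End F V} (hx : Isom B x) (hxq : x ^ q = 1) (hxc : finrank F ↥(cm x) = c) (hN : finrank F V < 2 * N + c) :
    ∀ U, TI B U → finrank F U = N → ¬ U ≤ fx x := by
  intro U hU hUN hle
  have h2 := hx.nd_inf_fx hB hr hxq inv_top hV
  rw [top_inf_eq] at h2
  have h3 := hB.two_mul_finrank_le h2 hle hU
  have h4 := finrank_fx_add_cm hr hxq
  omega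

omit [FiniteDimensional F V] in
theorem act_pow {Gh : Type*} [Group Gh] {act : Gh →* (V ≃ₗ[F] V)} {x : Gh} (hx : x ^ q = 1) :
    (act x : End F V) ^ q = 1 := by
  rw [← coe_pow, ← map_pow, hx, map_one]
  rfl

/-- **block G from one or two elements** -/
theorem qelt_of [Fintype F] [Fact q.Prime] {Gh : Type*} [Group Gh] {act : Gh →* (V ≃ₗ[F] V)}
    {Adm : Submodule F V → Prop} (hB : Frm σ ε B) (hV : Nd B (⊤ : Submodule F V)) (hr : (q : F) ≠ 0)
    (hAT : ∀ U, Adm U → TI B U) (hf : f = orderOf (Fintype.card F : ZMod q)) (hc : c = 2 * f ∨ c = f)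
    (hN : finrank F V < 2 * N + c)
    (h1 : ∃ x : Gh, x ^ q = 1 ∧ Isom B (act x : End F V) ∧ finrank F ↥(cm (act x : End F V)) = c)
    (h2 : ∀ k, f = 2 ^ k → c = 2 * f → f ≤ N → ∃ x y : Gh, x * y = y * x ∧ x ^ q = 1 ∧ y ^ q = 1 ∧
      Isom B (act x : End F V) ∧ Isom B (act y : End F V) ∧ finrank F ↥(cm (act x : End F V)) = c ∧
      finrank F ↥(cm (act y : End F V)) = c ∧ cm (act y : End F V) ≤ fx (act x : End F V)) :
    QElt Adm act q N := by
  have hdown : ∀ U U' : Submodule F V, U ≤ U' → TI B U' → TI B U := fun U U' h h' => h'.mono h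
  by_cases hfc : c = 2 * f
  · by_cases hd : f ∈ dig N
    · obtain ⟨k, hk, hkN⟩ := mem_dig hd
      obtain ⟨x, y, hxy, hx, hy, hxi, hyi, hxc, hyc, hle⟩ := h2 k hk hfc (hk ▸ hkN)
      exact qelt_two (TI' := TI B) (d := f) x y hxy hx hy hr hle hAT hdown (ti_bot hB)
        (fun U hU hi hUc hne => (ti_inv hB hV hr hxi (act_pow hx) hf hxc hc U hU hi hUc hne).1)
        (fun U hU hi hUc hne => (ti_inv hB hV hr hyi (act_pow hy) hf hyc hc U hU hi hUc hne).1)
        (not_le_fx hB hV hr hxi (act_pow hx) hxc hN) (not_le_fx hB hV hr hyi (act_pow hy) hyc hN)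
    · obtain ⟨x, hx, hxi, hxc⟩ := h1
      exact qelt_one (TI' := TI B) (d := f) x hx hr hAT hdown (ti_bot hB)
        (fun U hU hi hUc hne => (ti_inv hB hV hr hxi (act_pow hx) hf hxc hc U hU hi hUc hne).1)
        (not_le_fx hB hV hr hxi (act_pow hx) hxc hN) hd
  · obtain ⟨x, hx, hxi, hxc⟩ := h1
    refine qelt_one (TI' := TI B) (d := 0) x hx hr hAT hdown (ti_bot hB)
      (fun U hU hi hUc hne => absurd (ti_inv hB hV hr hxi (act_pow hx) hf hxc hc U hU hi hUc hne).2 hfc)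
      (not_le_fx hB hV hr hxi (act_pow hx) hxc hN) ?_
    intro h0
    obtain ⟨k, hk, -⟩ := mem_dig h0
    exact absurd hk.symm (pow_ne_zero k two_ne_zero)

/-- two commuting elements with `dim [V, x] = c` and `[V, y] ≤ C_V(x)` -/
theorem exists_two (hB : Frm σ ε B) (hK : Kind σ ε B) (hV : Nd B (⊤ : Submodule F V)) (hr : (q : F) ≠ 0)
    (hce : σ = RingHom.id F → Even c)
    (hblk : ∀ U : Submodule F V, Nd B U → finrank F U = c →
      ∃ y : Module.End F V, Isom B y ∧ y ^ q = 1 ∧ hB.perp U ≤ fx y ∧ cm y = U) (h2c : 2 * c ≤ finrank F V) :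
    ∃ x y : End F V, x * y = y * x ∧ x ^ q = 1 ∧ y ^ q = 1 ∧ Isom B x ∧ Isom B y ∧ finrank F ↥(cm x) = c ∧
      finrank F ↥(cm y) = c ∧ cm y ≤ fx x := by
  obtain ⟨U, -, hU, hUc⟩ := exists_nd_sub hB hK hV (k := c) (by rw [finrank_top]; omega) hce
  obtain ⟨x, hx, hxq, -, hxU⟩ := hblk U hU hUc
  have h2 := hx.nd_inf_fx hB hr hxq inv_top hV
  rw [top_inf_eq] at h2
  have h4 := finrank_fx_add_cm hr hxq
  rw [hxU, hUc] at h4
  obtain ⟨U', hU'x, hU', hU'c⟩ := exists_nd_sub hB hK h2 (k := c) (by omega) hce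
  obtain ⟨y, hy, hyq, hyp, hyU⟩ := hblk U' hU' hU'c
  exact ⟨x, y, glue_comm hB hU' hx hU'x hyU.le hyp, hxq, hyq, hx, hy, by rw [hxU, hUc], by rw [hyU, hU'c],
    hyU.le.trans hU'x⟩

end gen

/-! ### the unitary groups -/

section psu

open Cfsg Cfsg.Agent.TitsThree.KSideU Cfsg.Agent.TitsThree.KSideUDesc

section herm

variable {F V : Type*} [Field F] [Fintype F] [AddCommGroup V] [Module F V] [FiniteDimensional F V]
  {σ : F →+* F} {B : V → V → F} {q r i c n : ℕ}

/-- blocks of the unitary group -/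
theorem blk_unitary [Fact q.Prime] (hq2 : q ≠ 2) (hqF : (q : F) ≠ 0) (hF : Fintype.card F = r ^ 2)
    (hσ : ∀ a, σ a = a ^ r) (hne : σ ≠ RingHom.id F) (hB : Frm σ 1 B) (hi : i = orderOf (r : ZMod q)) (hi0 : 0 < i)
    (hc : c = if i % 4 = 0 then i else if i % 4 = 2 then i / 2 else 2 * i) (U : Submodule F V) (hU : Nd B U)
    (hUc : finrank F U = c) : ∃ y : Module.End F V, Isom B y ∧ y ^ q = 1 ∧ hB.perp U ≤ fx y ∧ cm y = U := by
  have hr := ClassicalGeometry.GUBasic.two_le hF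
  obtain ⟨y, hy, hyr, hy1⟩ := exists_block_unitary hq2 hF hi hi0 hc
  have hB' := frm_herm hσ hB.sigma_sq c
  refine exists_blk hB hB' (Or.inl ⟨hne, rfl⟩) (kind_herm hne c) (nd_herm (by omega)) hqF ?_ hy hyr hy1 hU
    (by rw [hUc]; simp)
  intro y hy hyr
  have h1 := hy.nd_inf_cm hB' hqF hyr (U := ⊤) (fun _ _ => trivial) (nd_herm (by omega))
  rw [top_inf_eq] at h1
  have h3 := dvd_finrank_unitary hq2 hqF hF hσ hne hB' hi hi0 hc hy hyr _ inv_cm h1 le_rfl
  have h4 : finrank F (Fin c → F) = c := by simp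
  rw [h4]
  exact h3

omit [Fintype F] in
theorem toLin_eq (s : SU n F r) : ((toLin F r n s : (Fin n → F) ≃ₗ[F] (Fin n → F)) : End F (Fin n → F)) =
    Matrix.toLin' ((s : Matrix.SpecialLinearGroup (Fin n) F) : Matrix (Fin n) (Fin n) F) := by
  ext1 v
  rfl

/-- an isometry of order `q`, prime to `r + 1`, is in `IU` -/
theorem exists_IU (hF : Fintype.card F = r ^ 2) {T : End F (Fin n → F)} (hT : Isom (hermForm n F r) T)
    (hTq : T ^ q = 1) (hco : Nat.Coprime q (r + 1)) :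
    ∃ g : IU F r n, ((IU F r n).subtype g : End F (Fin n → F)) = T ∧ g ^ q = 1 := by
  obtain ⟨x, hx, hxT⟩ := exists_SU hT (det_eq_one_of_coprime hF hT hTq hco)
  refine ⟨⟨toLin F r n ⟨x, hx⟩, ⟨x, hx⟩, rfl⟩, (toLin_eq _).trans hxT, ?_⟩
  apply Subtype.ext
  apply LinearEquiv.toLinearMap_injective
  show (((toLin F r n ⟨x, hx⟩) ^ q : (Fin n → F) ≃ₗ[F] (Fin n → F)) : End F (Fin n → F)) = 1
  rw [coe_pow, toLin_eq, hxT, hTq]

/-- the diagonal elements of order `q` of `IU` -/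
def Dg (F : Type*) [Field F] (r n q : ℕ) [Fact q.Prime] : Subgroup (IU F r n) where
  carrier := {g | ∀ i, ∃ c : F, c ^ q = 1 ∧
    (g : (Fin n → F) ≃ₗ[F] (Fin n → F)) (Pi.single i 1) = c • (Pi.single i 1 : Fin n → F)}
  one_mem' := fun i => ⟨1, one_pow _, by rw [one_smul]; rfl⟩
  mul_mem' := by
    intro g h hg hh i
    obtain ⟨c, hc, h1⟩ := hg i
    obtain ⟨d, hd, h2⟩ := hh i
    refine ⟨c * d, by rw [mul_pow, hc, hd, one_mul], ?_⟩
    show g.1 (h.1 _) = _
    rw [h2, map_smul, h1, smul_smul, mul_comm]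
  inv_mem' := by
    intro g hg i
    obtain ⟨c, hc, h1⟩ := hg i
    have hc0 : c ≠ 0 := by
      rintro rfl
      rw [zero_pow (Fact.out : q.Prime).ne_zero] at hc
      exact zero_ne_one hc
    refine ⟨c⁻¹, by rw [inv_pow, hc, inv_one], ?_⟩
    show g.1.symm (Pi.single i 1) = _
    rw [LinearEquiv.symm_apply_eq, map_smul, h1, smul_smul, inv_mul_cancel₀ hc0, one_smul]

omit [Fintype F] in
theorem dg_comm [Fact q.Prime] : ∀ g ∈ Dg F r n q, ∀ h ∈ Dg F r n q, g * h = h * g := by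
  intro g hg h hh
  apply Subtype.ext
  apply LinearEquiv.toLinearMap_injective
  refine (Pi.basisFun F (Fin n)).ext fun i => ?_
  obtain ⟨c, hc, h1⟩ := hg i
  obtain ⟨d, hd, h2⟩ := hh i
  rw [Pi.basisFun_apply]
  show g.1 (h.1 _) = h.1 (g.1 _)
  rw [h1, h2, map_smul, map_smul, h1, h2, smul_smul, smul_smul, mul_comm]

omit [Fintype F] in
theorem dg_pgroup [Fact q.Prime] : IsPGroup q (Dg F r n q) := by
  rintro ⟨g, hg⟩
  refine ⟨1, Subtype.ext ?_⟩
  show g ^ (q ^ 1) = 1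
  rw [pow_one]
  apply Subtype.ext
  apply LinearEquiv.toLinearMap_injective
  refine (Pi.basisFun F (Fin n)).ext fun i => ?_
  obtain ⟨c, hc, h1⟩ := hg i
  rw [Pi.basisFun_apply]
  have h2 : ∀ k : ℕ, ((g ^ k : IU F r n) : (Fin n → F) ≃ₗ[F] (Fin n → F)) (Pi.single i 1) =
      c ^ k • (Pi.single i 1 : Fin n → F) := by
    intro k
    induction k with
    | zero => rw [pow_zero, pow_zero, one_smul]; rfl
    | succ k ih =>
      rw [pow_succ', pow_succ']
      show g.1 ((g ^ k : IU F r n).1 _) = _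
      rw [ih, map_smul, h1, smul_smul, mul_comm]
  have h3 := h2 q
  rw [hc, one_smul] at h3
  exact h3

/-- the entries of `diag(ζ at i, ζ⁻¹ at j)` -/
def wd (ζ : F) (i j k : Fin n) : F := if k = i then ζ else if k = j then ζ⁻¹ else 1

theorem exists_dg [Fact q.Prime] {ζ : F} (hζ : ζ ^ (r + 1) = 1) (hζq : ζ ^ q = 1) {i j : Fin n} (hij : i ≠ j) :
    ∃ g ∈ Dg F r n q, ∀ v, (g : (Fin n → F) ≃ₗ[F] (Fin n → F)) v = fun k => wd ζ i j k * v k := by
  have hζ0 : ζ ≠ 0 := by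
    rintro rfl
    rw [zero_pow (Nat.succ_ne_zero r)] at hζ
    exact zero_ne_one hζ
  have hw : ∀ k, wd ζ i j k ^ (r + 1) = 1 ∧ wd ζ i j k ^ q = 1 := by
    intro k
    unfold wd
    split_ifs
    · exact ⟨hζ, hζq⟩
    · exact ⟨by rw [inv_pow, hζ, inv_one], by rw [inv_pow, hζq, inv_one]⟩
    · exact ⟨one_pow _, one_pow _⟩
  have hdet : LinearMap.det (Matrix.toLin' (Matrix.diagonal (wd ζ i j))) = 1 := by
    rw [LinearMap.det_toLin', Matrix.det_diagonal, Finset.prod_eq_mul i j hij]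
    · unfold wd
      rw [if_pos rfl, if_neg hij.symm, if_pos rfl, mul_inv_cancel₀ hζ0]
    · rintro k - ⟨hk, hk'⟩
      unfold wd
      rw [if_neg hk, if_neg hk']
    · intro h; exact absurd (Finset.mem_univ _) h
    · intro h; exact absurd (Finset.mem_univ _) h
  have hiso : Isom (hermForm n F r) (Matrix.toLin' (Matrix.diagonal (wd ζ i j))) := by
    intro u v
    rw [Matrix.toLin'_apply, Matrix.toLin'_apply]
    refine Finset.sum_congr rfl fun k _ => ?_
    rw [Matrix.mulVec_diagonal, Matrix.mulVec_diagonal]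
    have h1 := (hw k).1
    rw [pow_succ'] at h1
    rw [mul_pow]
    linear_combination u k * v k ^ r * h1
  obtain ⟨x, hx, hxT⟩ := exists_SU hiso hdet
  have happ : ∀ v, toLin F r n ⟨x, hx⟩ v = fun k => wd ζ i j k * v k := by
    intro v
    have h1 := LinearMap.congr_fun (toLin_eq (⟨x, hx⟩ : SU n F r)) v
    refine h1.trans ?_
    rw [hxT, Matrix.toLin'_apply]
    funext k
    rw [Matrix.mulVec_diagonal]
  refine ⟨⟨toLin F r n ⟨x, hx⟩, ⟨x, hx⟩, rfl⟩, ?_, happ⟩
  intro l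
  refine ⟨wd ζ i j l, (hw l).2, ?_⟩
  show toLin F r n ⟨x, hx⟩ (Pi.single l 1) = _
  rw [happ]
  funext k
  rw [Pi.smul_apply, smul_eq_mul]
  by_cases hk : k = l
  · subst hk; rfl
  · rw [Pi.single_eq_of_ne hk, mul_zero, mul_zero]

omit [Fintype F] in
/-- no totally isotropic subspace is stable under all these -/
theorem eq_bot_of_dg (hn : 3 ≤ n) {ζ : F} (hζ1 : ζ ≠ 1) {B : Submodule F (Fin n → F)}
    (hTI : ∀ u ∈ B, ∀ v ∈ B, hermForm n F r u v = 0)
    (hst : ∀ i j : Fin n, i ≠ j → ∀ v ∈ B, (fun k => wd ζ i j k * v k) ∈ B) : B = ⊥ := by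
  by_contra hne
  obtain ⟨u, hu, hu0⟩ := (Submodule.ne_bot_iff _).1 hne
  obtain ⟨i, hi⟩ := Function.ne_iff.1 hu0
  obtain ⟨j, k, hji, hki, hjk⟩ : ∃ j k : Fin n, j ≠ i ∧ k ≠ i ∧ j ≠ k := by
    by_cases h0 : (i : ℕ) = 0
    · exact ⟨⟨1, by omega⟩, ⟨2, by omega⟩, fun h => by rw [← h] at h0; exact absurd h0 (by simp),
        fun h => by rw [← h] at h0; exact absurd h0 (by simp), fun h => absurd (Fin.mk.inj h) (by omega)⟩
    · by_cases h1 : (i : ℕ) = 1
      · exact ⟨⟨0, by omega⟩, ⟨2, by omega⟩, fun h => by rw [← h] at h1; exact absurd h1 (by simp),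
          fun h => by rw [← h] at h1; exact absurd h1 (by simp), fun h => absurd (Fin.mk.inj h) (by omega)⟩
      · exact ⟨⟨0, by omega⟩, ⟨1, by omega⟩, fun h => h0 (by rw [← h]), fun h => h1 (by rw [← h]),
          fun h => absurd (Fin.mk.inj h) (by omega)⟩
  have h1 := B.sub_mem (hst i j hji.symm u hu) hu
  have h2 := B.sub_mem (hst i k hki.symm _ h1) h1
  have h3 : ∀ l, ((fun l => wd ζ i k l * ((fun l => wd ζ i j l * u l) - u) l) - ((fun l => wd ζ i j l * u l) - u)) l =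
      if l = i then (ζ - 1) ^ 2 * u i else 0 := by
    intro l
    simp only [Pi.sub_apply, wd]
    by_cases hl : l = i
    · subst hl
      rw [if_pos rfl, if_pos rfl, if_pos rfl]
      ring
    · rw [if_neg hl, if_neg hl, if_neg hl]
      by_cases hl2 : l = j
      · subst hl2
        rw [if_pos rfl, if_neg hjk]
        ring
      · rw [if_neg hl2]
        ring
  have h4 := hTI _ h2 _ h2
  unfold hermForm at h4
  rw [Finset.sum_eq_single i] at h4
  · rw [h3, if_pos rfl, ← pow_succ'] at h4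
    have h5 := pow_eq_zero_iff (Nat.succ_ne_zero r) |>.1 h4
    rcases mul_eq_zero.1 h5 with h6 | h6
    · exact hζ1 (sub_eq_zero.1 (pow_eq_zero_iff two_ne_zero |>.1 h6))
    · exact hi h6
  · intro l _ hl
    rw [h3, if_neg hl, zero_mul]
  · intro h; exact absurd (Finset.mem_univ _) h

theorem qelt_diag [Fact q.Prime] (hF : Fintype.card F = r ^ 2) (hn : 3 ≤ n) (hq : q ∣ r + 1)
    (Adm : Submodule F (Fin n → F) → Prop)
    (hAdm : ∀ U, Adm U → ∀ u ∈ U, ∀ v ∈ U, hermForm n F r u v = 0) : QElt Adm (IU F r n).subtype q (n / 2) := by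
  obtain ⟨z, hz⟩ := exists_prime_orderOf_dvd_card' (G := Fˣ) q (by
    rw [Nat.card_units, Nat.card_eq_fintype_card, hF]
    refine hq.trans ⟨r - 1, ?_⟩
    have hr := ClassicalGeometry.GUBasic.two_le hF
    obtain ⟨t, rfl⟩ : ∃ t, r = t + 1 := ⟨r - 1, by omega⟩
    rw [Nat.add_sub_cancel]
    have : (t + 1) ^ 2 = (t + 1 + 1) * t + 1 := by ring
    omega)
  have hzq : (z : F) ^ q = 1 := by
    rw [← Units.val_pow_eq_pow_val, ← hz, pow_orderOf_eq_one]
    rfl
  have hz1 : (z : F) ≠ 1 := by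
    intro h
    rw [Units.val_eq_one] at h
    rw [h, orderOf_one] at hz
    exact (Fact.out : q.Prime).one_lt.ne hz
  have hzr : (z : F) ^ (r + 1) = 1 := by
    obtain ⟨t, ht⟩ := hq
    rw [ht, pow_mul, hzq, one_pow]
  refine ⟨Dg F r n q, dg_pgroup, dg_comm, ?_⟩
  intro hPF
  cases hd : dig (n / 2) with
  | nil =>
    have h1 := dig_sum (n / 2)
    rw [hd, List.sum_nil] at h1
    omega
  | cons k ds =>
    rw [hd] at hPF
    obtain ⟨B, hlt, hB, hst, -⟩ := hPF
    refine hlt.ne' (eq_bot_of_dg hn hz1 (hAdm B hB) ?_)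
    intro i j hij v hv
    obtain ⟨g, hg, hgv⟩ := exists_dg (n := n) hzr hzq hij
    have h1 := hst _ ⟨g, hg, rfl⟩
    rw [← h1]
    exact ⟨v, hv, hgv v⟩

/-- **block G for `PSU_n`** -/
theorem qelt_psu {F : Type*} [Field F] [Fintype F] {r n : ℕ} (hF : Fintype.card F = r ^ 2) (hn : 3 ≤ n) {q : ℕ}
    [Fact q.Prime] (hq2 : q ≠ 2) (hqF : (q : F) ≠ 0) (hqS : q ∣ Nat.card (SU n F r))
    (hbad : ¬ ∃ c, 1 ≤ c ∧ orderOf (-(r : ZMod q)) = 2 ^ c ∧ 2 ^ c ≤ n ∧ n < 2 * 2 ^ c)
    (Adm : Submodule F (Fin n → F) → Prop)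
    (hAdm : ∀ U, Adm U → ∀ u ∈ U, ∀ v ∈ U, hermForm n F r u v = 0) : QElt Adm (IU F r n).subtype q (n / 2) := by
  obtain ⟨σ, hσ, h2, hne⟩ := exists_sig hF
  have hr := ClassicalGeometry.GUBasic.two_le hF
  have hB := frm_herm hσ h2 n
  have hK := kind_herm (q := r) hne n
  have hV : Nd (hermForm n F r) (⊤ : Submodule F (Fin n → F)) := nd_herm (by omega)
  have hqP : q.Prime := Fact.out
  set i := orderOf (r : ZMod q) with hi
  have hi0 : 0 < i := by
    have h1 := ord_pos (F := F) hqF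
    rw [hF, Nat.cast_pow, orderOf_pos_iff, isOfFinOrder_pow] at h1
    rcases h1 with h1 | h1
    · exact orderOf_pos_iff.2 h1
    · exact absurd h1 two_ne_zero
  obtain ⟨c, hc⟩ : ∃ c, c = if i % 4 = 0 then i else if i % 4 = 2 then i / 2 else 2 * i := ⟨_, rfl⟩
  have hord : orderOf (-(r : ZMod q)) = c := by
    apply Nat.dvd_antisymm
    · rw [orderOf_dvd_iff_pow_eq_one]
      exact (neg_pow_eq_one_iff hq2 hi hi0 hc c).2 dvd_rfl
    · exact (neg_pow_eq_one_iff hq2 hi hi0 hc _).1 (pow_orderOf_eq_one _)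
  by_cases hc1 : c = 1
  · refine qelt_diag hF hn ?_ Adm hAdm
    rw [hc1, orderOf_eq_one_iff] at hord
    rw [← ZMod.natCast_eq_zero_iff]
    push_cast
    linear_combination -hord
  have hc0 : 0 < c := by
    rw [hc]; split_ifs <;> omega
  have hco : Nat.Coprime q (r + 1) := by
    rw [hqP.coprime_iff_not_dvd]
    intro h
    apply hc1
    rw [← hord, orderOf_eq_one_iff]
    rw [← ZMod.natCast_eq_zero_iff] at h
    push_cast at h
    linear_combination -h
  obtain ⟨p, hp⟩ := CharP.exists F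
  obtain ⟨-, hpp, -⟩ := FiniteField.card F p
  have : Fact p.Prime := ⟨hpp⟩
  obtain ⟨f, hf⟩ : ∃ f, f = orderOf (Fintype.card F : ZMod q) := ⟨_, rfl⟩
  have hcf : c = 2 * f ∨ c = f := by
    rw [hf]
    rcases blockNum_unitary hq2 hσ h2 (p := p) hF hi hi0 hc with h | h
    · exact Or.inl h
    · exact Or.inr h.1
  have hfin : finrank F (Fin n → F) = n := by simp
  -- `c ≤ n`
  have hcn : c ≤ n := by
    obtain ⟨g, hg⟩ := exists_prime_orderOf_dvd_card' q hqS
    have hT := isom_SU g.2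
    have hTq : (Matrix.toLin' ((g : Matrix.SpecialLinearGroup (Fin n) F) : Matrix (Fin n) (Fin n) F)) ^ q = 1 := by
      rw [← toLin_eq, ← coe_pow, ← map_pow, ← hg, pow_orderOf_eq_one, map_one]
      rfl
    have h1 := hT.nd_inf_cm hB hqF hTq (U := ⊤) (fun _ _ => trivial) hV
    rw [top_inf_eq] at h1
    have h3 := dvd_finrank_unitary hq2 hqF hF hσ hne hB hi hi0 hc hT hTq _ inv_cm h1 le_rfl
    have h4 := Submodule.finrank_le (cm (Matrix.toLin' ((g : Matrix.SpecialLinearGroup (Fin n) F) : Matrix (Fin n) (Fin n) F)))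
    rw [hfin] at h4
    refine le_trans (Nat.le_of_dvd ?_ h3) h4
    rw [Nat.pos_iff_ne_zero]
    intro h0
    have h5 := Submodule.finrank_eq_zero.1 h0
    have h6 : g = 1 := by
      apply toLin_injective
      apply LinearEquiv.toLinearMap_injective
      refine (toLin_eq g).trans ?_
      refine LinearMap.ext fun v => ?_
      rw [map_one]
      have h7 : Matrix.toLin' ((g : Matrix.SpecialLinearGroup (Fin n) F) : Matrix (Fin n) (Fin n) F) v - v ∈
        cm (Matrix.toLin' ((g : Matrix.SpecialLinearGroup (Fin n) F) : Matrix (Fin n) (Fin n) F)) := mem_cm.2 ⟨v, rfl⟩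
      rw [h5, Submodule.mem_bot, sub_eq_zero] at h7
      exact h7
    rw [h6, orderOf_one] at hg
    exact hqP.one_lt.ne hg
  refine qelt_of hB hV hqF hAdm hf hcf (by rw [hfin]; omega) ?_ ?_
  · obtain ⟨x, hx, hxq, hxc⟩ := exists_elt_unitary hq2 hqF hF hσ hne hB hV hi hi0 hc (M := 1) (by rw [hfin]; omega)
    obtain ⟨g, hgx, hg⟩ := exists_IU hF hx hxq hco
    exact ⟨g, hg, by rw [hgx]; exact hx, by rw [hgx, hxc, mul_one]⟩
  · intro k hk hck hkN
    have h2c : 2 * c ≤ n := by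
      by_contra h
      apply hbad
      refine ⟨k + 1, by omega, ?_, ?_, ?_⟩
      · rw [hord, hck, hk, pow_succ, mul_comm]
      · have h3 : 2 ^ (k + 1) = c := by rw [hck, hk, pow_succ, mul_comm]
        rw [h3]
        exact hcn
      · have h3 : 2 ^ (k + 1) = c := by rw [hck, hk, pow_succ, mul_comm]
        rw [h3]
        omega
    obtain ⟨x, y, hxy, hxq, hyq, hx, hy, hxc, hyc, hle⟩ := exists_two hB hK hV hqF (fun h => absurd h hne)
      (blk_unitary hq2 hqF hF hσ hne hB hi hi0 hc) (by rw [hfin]; exact h2c)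
    obtain ⟨g, hgx, hg⟩ := exists_IU hF hx hxq hco
    obtain ⟨h, hhy, hh⟩ := exists_IU hF hy hyq hco
    refine ⟨g, h, ?_, hg, hh, by rw [hgx]; exact hx, by rw [hhy]; exact hy, by rw [hgx, hxc], by rw [hhy, hyc],
      by rw [hgx, hhy]; exact hle⟩
    apply Subtype.ext
    apply LinearEquiv.toLinearMap_injective
    have e1 : ((g * h : IU F r n).1 : End F (Fin n → F)) = x * y := by
      rw [← hgx, ← hhy]; rfl
    have e2 : ((h * g : IU F r n).1 : End F (Fin n → F)) = y * x := by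
      rw [← hgx, ← hhy]; rfl
    exact e1.trans (hxy.trans e2.symm)

end herm

end psu

end Cfsg.Agent.H412.CC
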