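import Cfsg.Agent.H439.CC.Defs
import Cfsg.Agent.H951.Glue

/-!
# S4884, cross characteristic, block G: primary flags for one or two `q`-elements (helper412)

`x : V ≃ₗ V`, `x ^ q = 1`, such that every totally isotropic (property `TI'`) `x`-invariant subspace `≠ ⊥` of `[V, x]` has
dimension `d` and no maximal one is contained in `C_V(x)`.  A flag with primary quotients has a quotient of dimension `d`
(`pf_one`), and two such quotients for two commuting `x₁, x₂` with `[V, x₁] ≤ C_V(x₂)` (`pf_two`).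
`qelt_one`, `qelt_two`: the resulting `QElt`.
-/

set_option autoImplicit false

namespace Cfsg.Agent.H412.CC

open Module Polynomial Cfsg.Agent.H951 Cfsg.Agent.H439.CC

section comb

variable {F V : Type*} [Field F] [AddCommGroup V] [Module F V] [FiniteDimensional F V]
  {Adm TI' : Submodule F V → Prop} {Y : Set (V ≃ₗ[F] V)} {q d : ℕ}

omit [FiniteDimensional F V] in
theorem inv_of_map {x : V ≃ₗ[F] V} {W : Submodule F V} (h : W.map (x : V →ₗ[F] V) = W) :
    Inv (x : End F V) W := inv_iff_map.2 h.le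

omit [FiniteDimensional F V] in
theorem le_fx_of {x : End F V} (hq : (q : F) ≠ 0) (hxq : x ^ q = 1) {B : Submodule F V} (hB : Inv x B)
    (h : B ⊓ cm x = ⊥) : B ≤ fx x := by
  have h1 := inf_fx_sup_inf_cm hq hxq hB
  rw [h, sup_bot_eq] at h1
  rw [← h1]
  exact inf_le_right

/-- the first quotient on which `x` is not trivial -/
theorem quot {x : V ≃ₗ[F] V} (hq : (q : F) ≠ 0) (hxq : (x : End F V) ^ q = 1)
    (hd : ∀ U, TI' U → Inv (x : End F V) U → U ≤ cm (x : End F V) → U ≠ ⊥ → finrank F U = d)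
    (hdown : ∀ U U', U ≤ U' → TI' U' → TI' U) {A B : Submodule F V} (hA : A ≤ fx (x : End F V)) (hAB : A ≤ B)
    (hB : TI' B) (hst : B.map (x : V →ₗ[F] V) = B) (hprim : Prim x A B) (hBx : ¬ B ≤ fx (x : End F V)) :
    B ⊓ fx (x : End F V) = A ∧ finrank F B = finrank F A + d := by
  have hinv := inv_of_map hst
  have hne : B ⊓ cm (x : End F V) ≠ ⊥ := fun h => hBx (le_fx_of hq hxq hinv h)
  have hfin : finrank F ↥(B ⊓ cm (x : End F V)) = d :=
    hd _ (hdown _ _ inf_le_left hB) (hinv.inf inv_cm) inf_le_right hne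
  have hdis : ∀ v, v ∈ fx (x : End F V) → v ∈ cm (x : End F V) → v = 0 := by
    intro v h1 h2
    have h3 := (isCompl_fx_cm hq hxq).inf_eq_bot
    rw [← Submodule.mem_bot F, ← h3]
    exact ⟨h1, h2⟩
  have h1 : B ⊓ fx (x : End F V) = A := by
    have hcop : IsCoprime (X - C 1 : F[X]) (∑ i ∈ Finset.range q, X ^ i) := by
      have h3 : (∑ i ∈ Finset.range q, (X : F[X]) ^ i) = (X - C 1) * divByMonic (∑ i ∈ Finset.range q, X ^ i) (X - C 1)
          + C (q : F) := by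
        have h4 := modByMonic_add_div (∑ i ∈ Finset.range q, (X : F[X]) ^ i) (X - C (1 : F))
        rw [modByMonic_X_sub_C_eq_C_eval] at h4
        have h5 : eval 1 (∑ i ∈ Finset.range q, (X : F[X]) ^ i) = (q : F) := by
          rw [eval_finsetSum]
          simp
        rw [h5] at h4
        exact h4.symm.trans (add_comm _ _)
      refine ⟨-(C (q : F)⁻¹) * divByMonic (∑ i ∈ Finset.range q, X ^ i) (X - C 1), C (q : F)⁻¹, ?_⟩
      have h4 : (C (q : F)⁻¹ : F[X]) * C (q : F) = 1 := by rw [← C_mul, inv_mul_cancel₀ hq, C_1]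
      generalize divByMonic (∑ i ∈ Finset.range q, (X : F[X]) ^ i) (X - C 1) = D at h3
      linear_combination C (q : F)⁻¹ * h3 + h4
    have hkill : ∀ v ∈ B, aeval (x : V →ₗ[F] V) ((X - C 1 : F[X]) * ∑ i ∈ Finset.range q, (X : F[X]) ^ i) v ∈ A := by
      intro v hv
      have h3 : ((X - C 1 : F[X]) * ∑ i ∈ Finset.range q, X ^ i) = X ^ q - 1 := by
        rw [C_1, mul_geom_sum]
      have h4 : aeval (x : V →ₗ[F] V) ((X - C 1 : F[X]) * ∑ i ∈ Finset.range q, (X : F[X]) ^ i) = 0 := by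
        rw [h3, map_sub, map_pow, aeval_X, map_one]
        exact sub_eq_zero.2 hxq
      rw [h4, LinearMap.zero_apply]
      exact A.zero_mem
    rcases hprim _ _ hcop hkill with h3 | h3
    · exfalso
      obtain ⟨v, hv, hv0⟩ := (Submodule.ne_bot_iff _).1 hne
      have h4 := h3 v hv.1
      have h5 : aeval (x : V →ₗ[F] V) (X - C 1 : F[X]) v = (x : V →ₗ[F] V) v - v := by
        rw [map_sub, aeval_X, C_1, map_one, LinearMap.sub_apply, Module.End.one_apply]
      rw [h5] at h4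
      have h6 := hdis _ (hA h4) (mem_cm.2 ⟨v, rfl⟩)
      exact hv0 (hdis v (mem_fx.2 (sub_eq_zero.1 h6)) hv.2)
    · apply le_antisymm
      · intro v hv
        have h4 := h3 v hv.1
        have h5 : aeval (x : V →ₗ[F] V) (∑ i ∈ Finset.range q, (X : F[X]) ^ i) v = (q : F) • v := by
          rw [map_sum]
          simp only [map_pow, aeval_X]
          exact avg_of_fx (x := (x : End F V)) (mem_fx.1 hv.2)
        rw [h5] at h4
        have h6 := A.smul_mem (q : F)⁻¹ h4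
        rwa [smul_smul, inv_mul_cancel₀ hq, one_smul] at h6
      · exact le_inf hAB hA
  refine ⟨h1, ?_⟩
  have h3 := finrank_inf_add hq hxq hinv
  rw [h1, hfin] at h3
  omega

theorem pf_one {x : V ≃ₗ[F] V} (hxX : x ∈ Y) (hq : (q : F) ≠ 0) (hxq : (x : End F V) ^ q = 1)
    (hAT : ∀ U, Adm U → TI' U) (hdown : ∀ U U', U ≤ U' → TI' U' → TI' U)
    (hd : ∀ U, TI' U → Inv (x : End F V) U → U ≤ cm (x : End F V) → U ≠ ⊥ → finrank F U = d) (ds : List ℕ) :
    ∀ A : Submodule F V, TI' A → (∀ y ∈ Y, A.map (y : V →ₗ[F] V) = A) → A ≤ fx (x : End F V) →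
      (∀ U, TI' U → (∀ y ∈ Y, U.map (y : V →ₗ[F] V) = U) → finrank F U = finrank F A + ds.sum →
        ¬ U ≤ fx (x : End F V)) → PF Adm Y ds A → d ∈ ds := by
  induction ds with
  | nil =>
    intro A hA hst hAx htop _
    exact absurd hAx (htop A hA hst (by simp))
  | cons k ds ih =>
    rintro A hA hst hAx htop ⟨B, hAB, hB, hstB, hfr, hprim, hPF⟩
    by_cases hBx : B ≤ fx (x : End F V)
    · refine List.mem_cons_of_mem _ (ih B (hAT B hB) hstB hBx (fun U hU hstU hfU => htop U hU hstU ?_) hPF)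
      rw [hfU, hfr, List.sum_cons, add_assoc]
    · have h1 := (quot hq hxq hd hdown hAx hAB.le (hAT B hB) (hstB x hxX) (hprim x hxX) hBx).2
      have h2 : k = d := by omega
      rw [h2]
      exact List.mem_cons_self

theorem pf_two {x₁ x₂ : V ≃ₗ[F] V} (hx₁X : x₁ ∈ Y) (hx₂X : x₂ ∈ Y) (hq : (q : F) ≠ 0)
    (hx₁q : (x₁ : End F V) ^ q = 1) (hx₂q : (x₂ : End F V) ^ q = 1)
    (h21 : cm (x₂ : End F V) ≤ fx (x₁ : End F V))
    (hAT : ∀ U, Adm U → TI' U) (hdown : ∀ U U', U ≤ U' → TI' U' → TI' U)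
    (hd₁ : ∀ U, TI' U → Inv (x₁ : End F V) U → U ≤ cm (x₁ : End F V) → U ≠ ⊥ → finrank F U = d)
    (hd₂ : ∀ U, TI' U → Inv (x₂ : End F V) U → U ≤ cm (x₂ : End F V) → U ≠ ⊥ → finrank F U = d) (ds : List ℕ) :
    ∀ A : Submodule F V, TI' A → (∀ y ∈ Y, A.map (y : V →ₗ[F] V) = A) → A ≤ fx (x₁ : End F V) →
      A ≤ fx (x₂ : End F V) →
      (∀ U, TI' U → (∀ y ∈ Y, U.map (y : V →ₗ[F] V) = U) → finrank F U = finrank F A + ds.sum →
        ¬ U ≤ fx (x₁ : End F V)) →
      (∀ U, TI' U → (∀ y ∈ Y, U.map (y : V →ₗ[F] V) = U) → finrank F U = finrank F A + ds.sum →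
        ¬ U ≤ fx (x₂ : End F V)) → PF Adm Y ds A → ¬ ds.Nodup := by
  induction ds with
  | nil =>
    intro A hA hst hAx _ htop _ _
    exact absurd hAx (htop A hA hst (by simp))
  | cons k ds ih =>
    rintro A hA hst hA₁ hA₂ htop₁ htop₂ ⟨B, hAB, hB, hstB, hfr, hprim, hPF⟩ hnd
    have hsum : ∀ U : Submodule F V, finrank F U = finrank F B + ds.sum → finrank F U = finrank F A + (k :: ds).sum := by
      intro U hU
      rw [hU, hfr, List.sum_cons, add_assoc]
    by_cases hB₁ : B ≤ fx (x₁ : End F V) <;> by_cases hB₂ : B ≤ fx (x₂ : End F V)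
    · exact ih B (hAT B hB) hstB hB₁ hB₂ (fun U hU hstU hfU => htop₁ U hU hstU (hsum U hfU))
        (fun U hU hstU hfU => htop₂ U hU hstU (hsum U hfU)) hPF (List.nodup_cons.1 hnd).2
    · have h1 := (quot hq hx₂q hd₂ hdown hA₂ hAB.le (hAT B hB) (hstB x₂ hx₂X) (hprim x₂ hx₂X) hB₂).2
      have h2 : k = d := by omega
      have h3 := pf_one hx₁X hq hx₁q hAT hdown hd₁ ds B (hAT B hB) hstB hB₁
        (fun U hU hstU hfU => htop₁ U hU hstU (hsum U hfU)) hPF
      rw [h2] at hnd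
      exact (List.nodup_cons.1 hnd).1 h3
    · have h1 := (quot hq hx₁q hd₁ hdown hA₁ hAB.le (hAT B hB) (hstB x₁ hx₁X) (hprim x₁ hx₁X) hB₁).2
      have h2 : k = d := by omega
      have h3 := pf_one hx₂X hq hx₂q hAT hdown hd₂ ds B (hAT B hB) hstB hB₂
        (fun U hU hstU hfU => htop₂ U hU hstU (hsum U hfU)) hPF
      rw [h2] at hnd
      exact (List.nodup_cons.1 hnd).1 h3
    · have h1 := (quot hq hx₁q hd₁ hdown hA₁ hAB.le (hAT B hB) (hstB x₁ hx₁X) (hprim x₁ hx₁X) hB₁).1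
      apply hB₂
      apply le_fx_of hq hx₂q (inv_of_map (hstB x₂ hx₂X))
      rw [eq_bot_iff, ← (isCompl_fx_cm hq hx₂q).inf_eq_bot]
      refine le_inf ?_ inf_le_right
      refine le_trans ?_ hA₂
      rw [← h1]
      exact le_inf inf_le_left (inf_le_right.trans h21)

end comb

/-! ### digits -/

theorem dig_sum (N : ℕ) : (dig N).sum = N := Nat.sum_map_two_pow_bitIndices N

theorem dig_nodup (N : ℕ) : (dig N).Nodup := by
  refine List.Nodup.map (Nat.pow_right_injective (le_refl 2)) ?_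
  exact (Nat.bitIndices_sorted (n := N)).nodup

theorem mem_dig {N d : ℕ} (h : d ∈ dig N) : ∃ c, d = 2 ^ c ∧ 2 ^ c ≤ N := by
  have h1 := List.single_le_sum (fun _ _ => Nat.zero_le _) d h
  rw [dig_sum] at h1
  obtain ⟨c, -, rfl⟩ := List.mem_map.1 h
  exact ⟨c, rfl, h1⟩

/-! ### the commutative `q`-subgroup generated by two commuting elements -/

section grp

variable {G : Type*} [Group G]

/-- `⟨x, y⟩` for commuting `x`, `y` -/
def two (x y : G) (h : x * y = y * x) : Subgroup G where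
  carrier := {g | ∃ a b : ℤ, g = x ^ a * y ^ b}
  one_mem' := ⟨0, 0, by simp⟩
  mul_mem' := by
    rintro _ _ ⟨a, b, rfl⟩ ⟨a', b', rfl⟩
    refine ⟨a + a', b + b', ?_⟩
    have hc : Commute x y := h
    rw [zpow_add, zpow_add, mul_assoc, ← mul_assoc (y ^ b), ((hc.zpow_zpow a' b).eq).symm]
    simp only [mul_assoc]
  inv_mem' := by
    rintro _ ⟨a, b, rfl⟩
    refine ⟨-a, -b, ?_⟩
    have hc : Commute x y := h
    rw [mul_inv_rev, ← zpow_neg, ← zpow_neg, (hc.zpow_zpow (-a) (-b)).eq]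

theorem two_comm {x y : G} (h : x * y = y * x) : ∀ g ∈ two x y h, ∀ g' ∈ two x y h, g * g' = g' * g := by
  rintro _ ⟨a, b, rfl⟩ _ ⟨a', b', rfl⟩
  have hc : Commute x y := h
  have h1 : Commute (x ^ a * y ^ b) (x ^ a') := ((Commute.refl x).zpow_zpow a a').mul_left (hc.zpow_zpow a' b).symm
  have h2 : Commute (x ^ a * y ^ b) (y ^ b') := (hc.zpow_zpow a b').mul_left ((Commute.refl y).zpow_zpow b b')
  exact (h1.mul_right h2).eq

theorem two_pgroup {x y : G} (h : x * y = y * x) {q : ℕ} (hx : x ^ q = 1) (hy : y ^ q = 1) :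
    IsPGroup q (two x y h) := by
  rintro ⟨_, a, b, rfl⟩
  refine ⟨1, Subtype.ext ?_⟩
  have hc : Commute x y := h
  show (x ^ a * y ^ b) ^ (q ^ 1) = 1
  rw [pow_one, (hc.zpow_zpow a b).mul_pow, ← zpow_natCast, ← zpow_natCast, ← zpow_mul, ← zpow_mul, mul_comm a,
    mul_comm b, zpow_mul, zpow_mul, zpow_natCast, zpow_natCast, hx, hy, one_zpow, one_zpow, one_mul]

end grp

section qelt

variable {F V : Type*} [Field F] [AddCommGroup V] [Module F V] [FiniteDimensional F V]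
  {Adm TI' : Submodule F V → Prop} {q d N : ℕ} {Gh : Type*} [Group Gh] {act : Gh →* (V ≃ₗ[F] V)}

omit [FiniteDimensional F V] in
theorem coe_pow (e : V ≃ₗ[F] V) (k : ℕ) : ((e ^ k : V ≃ₗ[F] V) : End F V) = (e : End F V) ^ k := by
  induction k with
  | zero => rfl
  | succ k ih => rw [pow_succ, pow_succ, ← ih]; rfl

/-- **one element, no digit `d`** -/
theorem qelt_one (x : Gh) (hx : x ^ q = 1) (hq : (q : F) ≠ 0) (hAT : ∀ U, Adm U → TI' U)
    (hdown : ∀ U U', U ≤ U' → TI' U' → TI' U) (hbot : TI' ⊥)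
    (hd : ∀ U, TI' U → Inv (act x : End F V) U → U ≤ cm (act x : End F V) → U ≠ ⊥ → finrank F U = d)
    (htop : ∀ U, TI' U → finrank F U = N → ¬ U ≤ fx (act x : End F V)) (hdN : d ∉ dig N) : QElt Adm act q N := by
  refine ⟨two x x rfl, two_pgroup rfl hx hx, two_comm rfl, fun hPF => hdN ?_⟩
  have hxX : act x ∈ act '' (two x x rfl : Set Gh) := ⟨x, ⟨1, 0, by simp⟩, rfl⟩
  have hxq : (act x : End F V) ^ q = 1 := by
    rw [← coe_pow, ← map_pow, hx, map_one]
    rfl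
  exact pf_one hxX hq hxq hAT hdown hd (dig N) ⊥ hbot (fun y _ => Submodule.map_bot _) bot_le
    (fun U hU _ hfU => htop U hU (by rw [hfU, finrank_bot, zero_add, dig_sum])) hPF

/-- **two elements** -/
theorem qelt_two (x₁ x₂ : Gh) (hc : x₁ * x₂ = x₂ * x₁) (hx₁ : x₁ ^ q = 1) (hx₂ : x₂ ^ q = 1) (hq : (q : F) ≠ 0)
    (h21 : cm (act x₂ : End F V) ≤ fx (act x₁ : End F V)) (hAT : ∀ U, Adm U → TI' U)
    (hdown : ∀ U U', U ≤ U' → TI' U' → TI' U) (hbot : TI' ⊥)
    (hd₁ : ∀ U, TI' U → Inv (act x₁ : End F V) U → U ≤ cm (act x₁ : End F V) → U ≠ ⊥ → finrank F U = d)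
    (hd₂ : ∀ U, TI' U → Inv (act x₂ : End F V) U → U ≤ cm (act x₂ : End F V) → U ≠ ⊥ → finrank F U = d)
    (htop₁ : ∀ U, TI' U → finrank F U = N → ¬ U ≤ fx (act x₁ : End F V))
    (htop₂ : ∀ U, TI' U → finrank F U = N → ¬ U ≤ fx (act x₂ : End F V)) : QElt Adm act q N := by
  refine ⟨two x₁ x₂ hc, two_pgroup hc hx₁ hx₂, two_comm hc, fun hPF => ?_⟩
  have hpow : ∀ x : Gh, x ^ q = 1 → (act x : End F V) ^ q = 1 := by
    intro x hx
    rw [← coe_pow, ← map_pow, hx, map_one]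
    rfl
  exact pf_two (Y := act '' (two x₁ x₂ hc : Set Gh)) ⟨x₁, ⟨1, 0, by simp⟩, rfl⟩ ⟨x₂, ⟨0, 1, by simp⟩, rfl⟩ hq
    (hpow _ hx₁) (hpow _ hx₂) h21 hAT hdown hd₁ hd₂ (dig N) ⊥ hbot (fun y _ => Submodule.map_bot _) bot_le bot_le
    (fun U hU _ hfU => htop₁ U hU (by rw [hfU, finrank_bot, zero_add, dig_sum]))
    (fun U hU _ hfU => htop₂ U hU (by rw [hfU, finrank_bot, zero_add, dig_sum])) hPF (dig_nodup N)

end qelt

end Cfsg.Agent.H412.CC
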